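import Mathlib.AlgebraicGeometry.Morphisms.SchemeTheoreticallyDominant
import Mathlib.AlgebraicGeometry.Morphisms.Proper
import Mathlib.AlgebraicGeometry.Morphisms.Preimmersion
import Mathlib.AlgebraicGeometry.Morphisms.Flat
import Mathlib.RingTheory.RingHom.Flat

/-!
# Scheme theoretic dominance, and an isomorphism criterion
-/

set_option autoImplicit false
set_option linter.style.haveILetI false
universe u

open CategoryTheory CategoryTheory.Limits AlgebraicGeometry

noncomputable section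

namespace TorsExtLib

theorem ker_comp_eq {X Y Z : Scheme.{u}} (d : X ⟶ Y) [IsSchemeTheoreticallyDominant d] (g : Y ⟶ Z) :
    (d ≫ g).ker = g.ker := by
  rw [Scheme.Hom.ker_comp, d.ker_eq_bot, Scheme.IdealSheafData.map_bot]

theorem isSchemeTheoreticallyDominant_toImage {X Y : Scheme.{u}} (f : X ⟶ Y) :
    IsSchemeTheoreticallyDominant f.toImage := by
  refine ⟨?_⟩
  let I := f.toImage.ker
  let k := I.subschemeι
  let j := k ≫ f.imageι
  have hf : f.toImage.toImage ≫ j = f := by
    change f.toImage.toImage ≫ f.toImage.imageι ≫ f.imageι = f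
    rw [Scheme.Hom.toImage_imageι_assoc, Scheme.Hom.toImage_imageι]
  have hker : j.ker = f.imageι.ker := by
    refine le_antisymm ?_ (Scheme.Hom.le_ker_comp k f.imageι)
    calc j.ker ≤ (f.toImage.toImage ≫ j).ker := Scheme.Hom.le_ker_comp _ _
      _ = f.ker := by rw [hf]
      _ = f.imageι.ker := f.ker.ker_subschemeι.symm
  haveI : IsIso k := IsClosedImmersion.isIso_of_ker_eq j f.imageι k rfl hker
  exact (Scheme.IdealSheafData.ker_subschemeι I).symm.trans (Scheme.Hom.ker_eq_bot_of_isIso k)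

/-- Two morphisms to a separated scheme agreeing on a scheme theoretically dense part are equal. -/
theorem hom_ext_of_dominant {W X Y Z : Scheme.{u}} {f g : X ⟶ Y} (s : Y ⟶ Z) [IsSeparated s]
    (h : f ≫ s = g ≫ s) (d : W ⟶ X) [IsSchemeTheoreticallyDominant d] (hd : d ≫ f = d ≫ g) : f = g := by
  let X' : Over Z := Over.mk (f ≫ s)
  let Y' : Over Z := Over.mk s
  let W' : Over Z := Over.mk (d ≫ f ≫ s)
  let f' : X' ⟶ Y' := Over.homMk f
  let g' : X' ⟶ Y' := Over.homMk g
  let d' : W' ⟶ X' := Over.homMk d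
  haveI : IsSeparated Y'.hom := ‹_›
  let e := (equalizer.ι f' g').left
  have hd' : d' ≫ f' = d' ≫ g' := Over.OverMorphism.ext hd
  have hfac : (equalizer.lift d' hd').left ≫ e = d := by
    rw [← Over.comp_left, equalizer.lift_ι]
    rfl
  haveI : IsIso e := by
    refine IsClosedImmersion.isIso_iff_ker_eq_bot.mpr (le_bot_iff.mp ?_)
    refine (Scheme.Hom.le_ker_comp (equalizer.lift d' hd').left e).trans ?_
    rw [hfac, d.ker_eq_bot]
  rw [← cancel_epi e]
  exact congr($(equalizer.condition f' g').left)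

theorem isIso_stalkMap_of_flat {X Y : Scheme.{u}} (f : X ⟶ Y) [Flat f] [IsPreimmersion f] (x : X) :
    IsIso (f.stalkMap x) := by
  rw [ConcreteCategory.isIso_iff_bijective]
  refine ⟨?_, f.stalkMap_surjective x⟩
  letI := (f.stalkMap x).hom.toAlgebra
  haveI : Module.Flat _ _ := Flat.stalkMap f x
  haveI : IsLocalHom (algebraMap (Y.presheaf.stalk (f x)) (X.presheaf.stalk x)) :=
    inferInstanceAs (IsLocalHom (f.stalkMap x).hom)
  haveI := Module.FaithfullyFlat.of_flat_of_isLocalHom (A := Y.presheaf.stalk (f x)) (B := X.presheaf.stalk x)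
  exact FaithfulSMul.algebraMap_injective _ _

/-- A closed morphism of schemes over `S` which is an isomorphism over flat preimmersions covering `S`
is an isomorphism. -/
theorem isIso_of_flat_preimmersion_cover {X Y S : Scheme.{u}} (a : X ⟶ Y) (hY : Y ⟶ S)
    (hclosed : IsClosedMap a.base)
    (H : ∀ s : S, ∃ (Z : Scheme.{u}) (j : Z ⟶ S) (X' Y' : Scheme.{u}) (a' : X' ⟶ Y') (pX : X' ⟶ X)
      (pY : Y' ⟶ Y) (qY : Y' ⟶ Z), Flat j ∧ IsPreimmersion j ∧ s ∈ Set.range j.base ∧ IsIso a' ∧
        IsPullback pY qY hY j ∧ IsPullback pX a' a pY) : IsIso a := by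
  have hbij : Function.Bijective a.base := by
    refine ⟨fun x₁ x₂ hx => ?_, fun y => ?_⟩
    · obtain ⟨Z, j, X', Y', a', pX, pY, qY, hj1, hj2, ⟨z, hz⟩, ha', hY', hX'⟩ := H (hY (a x₁))
      haveI : IsPreimmersion pY := MorphismProperty.of_isPullback hY'.flip hj2
      obtain ⟨y', hy', -⟩ := Scheme.exists_preimage_of_isPullback hY' (a x₁) z hz.symm
      obtain ⟨w₁, hw₁, hw₁'⟩ := Scheme.exists_preimage_of_isPullback hX' x₁ y' hy'.symm
      obtain ⟨w₂, hw₂, hw₂'⟩ := Scheme.exists_preimage_of_isPullback hX' x₂ y' (hx.symm.trans hy'.symm)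
      have : w₁ = w₂ := (Scheme.Hom.homeomorph a').injective (hw₁'.trans hw₂'.symm)
      rw [← hw₁, this, hw₂]
    · obtain ⟨Z, j, X', Y', a', pX, pY, qY, hj1, hj2, ⟨z, hz⟩, ha', hY', hX'⟩ := H (hY y)
      obtain ⟨y', hy', -⟩ := Scheme.exists_preimage_of_isPullback hY' y z hz.symm
      obtain ⟨w, hw⟩ := (Scheme.Hom.homeomorph a').surjective y'
      refine ⟨pX w, ?_⟩
      rw [← Scheme.Hom.comp_apply, hX'.w, Scheme.Hom.comp_apply, ← hy']
      exact congrArg pY.base hw
  haveI : Surjective a := ⟨hbij.2⟩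
  rw [isIso_iff_isOpenImmersion_and_surjective]
  refine ⟨?_, inferInstance⟩
  haveI : ∀ x, IsIso (a.stalkMap x) := by
    intro x
    obtain ⟨Z, j, X', Y', a', pX, pY, qY, hj1, hj2, ⟨z, hz⟩, ha', hY', hX'⟩ := H (hY (a x))
    haveI : IsPreimmersion pY := MorphismProperty.of_isPullback hY'.flip hj2
    haveI : Flat pY := MorphismProperty.of_isPullback hY'.flip hj1
    haveI : IsPreimmersion pX := MorphismProperty.of_isPullback hX'.flip ‹IsPreimmersion pY›
    haveI : Flat pX := MorphismProperty.of_isPullback hX'.flip ‹Flat pY›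
    obtain ⟨y', hy', -⟩ := Scheme.exists_preimage_of_isPullback hY' (a x) z hz.symm
    obtain ⟨w, rfl, -⟩ := Scheme.exists_preimage_of_isPullback hX' x y' hy'.symm
    haveI := isIso_stalkMap_of_flat pX w
    haveI := isIso_stalkMap_of_flat pY (a' w)
    haveI := isIso_stalkMap_of_flat a' w
    have h1 : IsIso ((pX ≫ a).stalkMap w) := by
      rw [Scheme.Hom.stalkMap_congr_hom _ _ hX'.w, Scheme.Hom.stalkMap_comp]
      exact IsIso.comp_isIso' (Iso.isIso_hom _)
        (IsIso.comp_isIso' (isIso_stalkMap_of_flat pY (a' w)) (isIso_stalkMap_of_flat a' w))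
    rw [Scheme.Hom.stalkMap_comp] at h1
    exact @IsIso.of_isIso_comp_right _ _ _ _ _ (a.stalkMap (pX w)) (pX.stalkMap w)
      (isIso_stalkMap_of_flat pX w) h1
  exact IsOpenImmersion.of_isIso_stalkMap a
    (Topology.IsClosedEmbedding.of_continuous_injective_isClosedMap a.continuous hbij.1 hclosed |>.isEmbedding
      |> fun he => ⟨he, by rw [Set.range_eq_univ.mpr hbij.2]; exact isOpen_univ⟩)

end TorsExtLib
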