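import Groth.Agent.TorsExtLib.Cart
import Groth.Agent.TorsExtLib.Schemes
import Mathlib.AlgebraicGeometry.Sites.Fpqc
import Mathlib.AlgebraicGeometry.Cover.Sigma

/-!
# Properties inherited by a torsor from its group
-/

set_option autoImplicit false
set_option linter.style.haveILetI false
universe u

open CategoryTheory CategoryTheory.Limits MonoidalCategory CartesianMonoidalCategory MonObj AlgebraicGeometry
open NonAbH1

noncomputable section

namespace TorsExtLib

variable {S : Scheme.{u}}

theorem property_fst {Q : MorphismProperty Scheme.{u}} [Q.IsStableUnderBaseChange] (A B : Over S) (h : Q B.hom) :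
    Q (fst A B).left :=
  MorphismProperty.of_isPullback (isPullback_fst_snd A B).flip h

theorem property_snd {Q : MorphismProperty Scheme.{u}} [Q.IsStableUnderBaseChange] (A B : Over S) (h : Q A.hom) :
    Q (snd A B).left :=
  MorphismProperty.of_isPullback (isPullback_fst_snd A B) h

/-- An fppf locally trivial scheme has a point over one fppf cover. -/
theorem exists_cover {X : Over S} (h : IsLocallyTrivialFor Scheme.fppfPrecoverage X) :
    ∃ T : Over S, Flat T.hom ∧ Surjective T.hom ∧ LocallyOfFinitePresentation T.hom ∧ Nonempty (T ⟶ X) := by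
  obtain ⟨R, hR, hsec⟩ := h
  obtain ⟨E, rfl⟩ := Precoverage.mem_iff_exists_zeroHypercover.mp hR
  have hE : ∀ s : S, ∃ i, ∃ y : E.X i, E.f i y = s :=
    fun s => Scheme.Cover.exists_eq (K := Scheme.precoverage (@Flat ⊓ @LocallyOfFinitePresentation)) E s
  choose i y hy using hE
  have hp : ∀ s, Flat (E.f (i s)) ∧ LocallyOfFinitePresentation (E.f (i s)) :=
    fun s => Scheme.Cover.map_prop (P := @Flat ⊓ @LocallyOfFinitePresentation) E (i s)
  choose t ht using fun s => hsec (E.f (i s)) (Presieve.ofArrows.mk (i s))
  refine ⟨Over.mk (Sigma.desc fun s => E.f (i s)), ?_, ⟨fun s => ⟨Sigma.ι (fun s => E.X (i s)) s (y s), ?_⟩⟩, ?_,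
    ⟨Over.homMk (Sigma.desc t) ?_⟩⟩
  · change Flat (Sigma.desc fun s => E.f (i s))
    rw [IsZariskiLocalAtSource.iff_of_openCover (P := @Flat) (sigmaOpenCover _)]
    intro s
    change Flat (Sigma.ι (fun s => E.X (i s)) s ≫ Sigma.desc fun s => E.f (i s))
    rw [Sigma.ι_desc]
    exact (hp s).1
  · change (Sigma.desc fun s => E.f (i s)) ((Sigma.ι (fun s => E.X (i s)) s) (y s)) = s
    rw [← Scheme.Hom.comp_apply, Sigma.ι_desc]
    exact hy s
  · change LocallyOfFinitePresentation (Sigma.desc fun s => E.f (i s))
    rw [IsZariskiLocalAtSource.iff_of_openCover (P := @LocallyOfFinitePresentation) (sigmaOpenCover _)]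
    intro s
    change LocallyOfFinitePresentation (Sigma.ι (fun s => E.X (i s)) s ≫ Sigma.desc fun s => E.f (i s))
    rw [Sigma.ι_desc]
    exact (hp s).2
  · refine Sigma.hom_ext _ _ fun s => ?_
    simp [ht s]

variable {G P : Over S} [GrpObj G] (a : AlgGrp.Action G P) (h : IsPseudoTorsorSch a)

include h in
/-- A property of the group is inherited by a torsor over any point. -/
theorem property_of_point {Q : MorphismProperty Scheme.{u}} [Q.IsStableUnderBaseChange] [Q.RespectsIso]
    (hG : Q G.hom) {T : Over S} (p : T ⟶ P) : Q (snd P T).left := by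
  haveI : IsIso (orb a p) := isIso_orb a h p
  have e : (orb a p).left ≫ (snd P T).left = (snd G T).left := by
    rw [← Over.comp_left]; simp [orb]
  haveI : IsIso (orb a p).left := inferInstanceAs (IsIso ((Over.forget S).map (orb a p)))
  rw [← Q.cancel_left_of_respectsIso (orb a p).left, e]
  exact property_snd G T hG

include h in
/-- A torsor under a proper flat group is universally closed and separated. -/
theorem universallyClosed_and_isSeparated [IsProper G.hom] {T : Over S} [Flat T.hom] [Surjective T.hom]
    [LocallyOfFinitePresentation T.hom] (p : T ⟶ P) : UniversallyClosed P.hom ∧ IsSeparated P.hom := by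
  have hQ : (@Surjective ⊓ @Flat ⊓ @LocallyOfFinitePresentation : MorphismProperty Scheme.{u}) T.hom :=
    ⟨⟨inferInstance, inferInstance⟩, inferInstance⟩
  refine ⟨MorphismProperty.of_isPullback_of_descendsAlong (P := @UniversallyClosed)
    (isPullback_fst_snd P T).flip hQ (property_of_point a h (Q := @UniversallyClosed) inferInstance p), ?_⟩
  haveI : IsSeparated (snd P T).left := property_of_point a h (Q := @IsSeparated) inferInstance p
  have hd : (MorphismProperty.diagonal @UniversallyClosed) P.hom :=
    MorphismProperty.of_isPullback_of_descendsAlong (P := MorphismProperty.diagonal @UniversallyClosed)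
      (isPullback_fst_snd P T).flip hQ (show UniversallyClosed (pullback.diagonal (snd P T).left) from inferInstance)
  haveI : UniversallyClosed (pullback.diagonal P.hom) := hd
  exact ⟨IsClosedImmersion.of_isPreimmersion _ (Scheme.Hom.isClosedMap _).isClosed_range⟩

include h in
/-- Two morphisms into a torsor under a proper group that agree on a scheme theoretically dense part, universally
so along the flat morphisms, are equal. -/
theorem hom_ext_of_dense [IsProper G.hom] {T : Over S} [Flat T.hom] [Surjective T.hom]
    [LocallyOfFinitePresentation T.hom] (p : T ⟶ P) {W W' : Over S} (d : W' ⟶ W)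
    [IsSchemeTheoreticallyDominant d.left] {f g : W ⟶ P} (hd : d ≫ f = d ≫ g) : f = g := by
  haveI := (universallyClosed_and_isSeparated a h p).2
  exact Over.OverMorphism.ext (hom_ext_of_dominant P.hom (by rw [Over.w, Over.w]) d.left
    (by rw [← Over.comp_left, hd, Over.comp_left]))

end TorsExtLib
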