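import Groth.Agent.TorsExtLib.Val
import Mathlib.AlgebraicGeometry.ValuativeCriterion
import Mathlib.AlgebraicGeometry.Morphisms.FlatDescent
import Mathlib.RingTheory.Localization.AtPrime.Basic

/-!
# Valuation points of flat schemes over a Dedekind domain
-/

set_option autoImplicit false
set_option linter.style.haveILetI false
universe u

open CategoryTheory CategoryTheory.Limits AlgebraicGeometry IsLocalRing

noncomputable section

namespace TorsExtLib

theorem exists_valuation_point (R : Type u) [CommRing R] [IsDedekindDomain R] (p : PrimeSpectrum R)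
    {X : Scheme.{u}} (f : X ⟶ Spec (CommRingCat.of R)) [Flat f] [Surjective f] :
    ∃ (V : Type u) (_ : CommRing V) (_ : IsDomain V) (_ : ValuationRing V)
      (χ : R →+* V) (ω : Localization.AtPrime p.asIdeal →+* V)
      (m : Spec (CommRingCat.of V) ⟶ X),
      Function.Injective χ ∧ χ.Flat ∧ ω.comp (algebraMap R _) = χ ∧
      Flat (Spec.map (CommRingCat.ofHom ω)) ∧ Surjective (Spec.map (CommRingCat.ofHom ω)) ∧
      m ≫ f = Spec.map (CommRingCat.ofHom χ) := by
  obtain ⟨x, hx⟩ := f.surjective p
  let c := X.affineCover.f (X.affineCover.idx x)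
  obtain ⟨z, hz⟩ := X.affineCover.covers x
  obtain ⟨A, cA, hflat, z, hz⟩ : ∃ (A : CommRingCat.{u}) (cA : Spec A ⟶ X), Flat (cA ≫ f) ∧
      ∃ z : Spec A, (cA ≫ f) z = p :=
    ⟨_, c, (by
      haveI : IsOpenImmersion (X.affineCover.f (X.affineCover.idx x)) := inferInstance
      exact MorphismProperty.comp_mem _ (X.affineCover.f (X.affineCover.idx x)) f inferInstance inferInstance), z, (congrArg f hz).trans hx⟩
  obtain ⟨φ, hφ⟩ := Spec.map_surjective (cA ≫ f)
  rw [← hφ] at hflat hz
  letI : Algebra R A := φ.hom.toAlgebra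
  haveI : Module.Flat R A := (HasRingHomProperty.Spec_iff (P := @Flat)).mp hflat
  obtain ⟨V, iV, iD, iVal, g, hinj, hfl, hmax⟩ := exists_valuation R A z.asIdeal
  let χ : R →+* V := g.comp φ.hom
  have hp : (maximalIdeal V).comap χ = p.asIdeal := hmax.trans (congrArg PrimeSpectrum.asIdeal hz)
  have hunit : ∀ y : p.asIdeal.primeCompl, IsUnit (χ y) := fun y => by
    by_contra h
    exact y.2 (hp.le ((mem_maximalIdeal _).mpr h))
  let ω : Localization.AtPrime p.asIdeal →+* V :=
    IsLocalization.lift (M := p.asIdeal.primeCompl) (S := Localization.AtPrime p.asIdeal) hunit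
  have hω : ω.comp (algebraMap R _) = χ := IsLocalization.lift_comp _
  have hff : Flat (Spec.map (CommRingCat.ofHom ω)) ∧ Surjective (Spec.map (CommRingCat.ofHom ω)) := by
    letI : Algebra (Localization.AtPrime p.asIdeal) V := ω.toAlgebra
    letI : Algebra R V := χ.toAlgebra
    haveI : IsScalarTower R (Localization.AtPrime p.asIdeal) V := IsScalarTower.of_algebraMap_eq' hω.symm
    haveI : Module.Flat R V := hfl
    haveI : Module.Flat (Localization.AtPrime p.asIdeal) V :=
      (Module.flat_iff_of_isLocalization (Localization.AtPrime p.asIdeal) p.asIdeal.primeCompl V).mpr inferInstance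
    haveI : IsLocalHom (algebraMap (Localization.AtPrime p.asIdeal) V) := ⟨fun y hy => by
      obtain ⟨⟨r, s⟩, rfl⟩ := IsLocalization.mk'_surjective p.asIdeal.primeCompl y
      have hr : IsUnit (χ r) := by
        have h1 := congrArg ω (IsLocalization.mk'_spec (Localization.AtPrime p.asIdeal) r s)
        rw [map_mul] at h1
        rw [← hω]
        exact h1 ▸ hy.mul (IsUnit.map ω (IsLocalization.map_units _ s))
      rw [IsLocalization.AtPrime.isUnit_mk'_iff (Localization.AtPrime p.asIdeal) p.asIdeal]
      exact fun h => (mem_maximalIdeal _).mp (hp.ge h) hr⟩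
    haveI := Module.FaithfullyFlat.of_flat_of_isLocalHom (A := Localization.AtPrime p.asIdeal) (B := V)
    rw [flat_and_surjective_SpecMap_iff]
    exact RingHom.faithfullyFlat_algebraMap_iff.mpr inferInstance
  refine ⟨V, iV, iD, iVal, χ, ω, Spec.map (CommRingCat.ofHom g) ≫ cA, hinj, hfl, hω, hff.1, hff.2, ?_⟩
  rw [Category.assoc, ← hφ, ← Spec.map_comp]
  rfl

end TorsExtLib
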