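import Groth.Agent.TorsExtLib.Props
import Groth.Agent.TorsExtLib.Point
import Groth.Prelude.Def_Neron
import Groth.Prelude.Def_ActBC

/-!
# Extending morphisms of torsors from the generic fibre
-/

set_option autoImplicit false
set_option linter.style.haveILetI false
universe u

open CategoryTheory CategoryTheory.Limits MonoidalCategory CartesianMonoidalCategory AlgebraicGeometry
open NonAbH1

noncomputable section

namespace TorsExtLib

theorem isSchemeTheoreticallyDominant_SpecMap {A B : Type u} [CommRing A] [CommRing B] [_root_.IsReduced A]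
    (f : A →+* B) (hf : Function.Injective f) :
    IsSchemeTheoreticallyDominant (Spec.map (CommRingCat.ofHom f)) := by
  haveI : _root_.IsReduced (CommRingCat.of A) := inferInstanceAs (_root_.IsReduced A)
  haveI : IsDominant (Spec.map (CommRingCat.ofHom f)) := ⟨by
    refine (PrimeSpectrum.denseRange_comap_iff_ker_le_nilRadical (f := f)).mpr ?_
    rw [(RingHom.injective_iff_ker_eq_bot f).mp hf]
    exact bot_le⟩
  exact IsSchemeTheoreticallyDominant.of_isDominant _

theorem eq_of_forall_lift {C : Type*} [Category C] [CartesianMonoidalCategory C] {A B D : C} {f g : A ⊗ B ⟶ D}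
    (h : ∀ (W : C) (x : W ⟶ A) (y : W ⟶ B), lift x y ≫ f = lift x y ≫ g) : f = g := by
  simpa using h _ (fst A B) (snd A B)

variable {S : Scheme.{u}}

theorem dominant_whiskerLeft (G : Over S) {A B : Over S} (d : A ⟶ B) [IsSchemeTheoreticallyDominant d.left]
    [QuasiCompact d.left] [Flat (snd G B).left] : IsSchemeTheoreticallyDominant (G ◁ d).left :=
  IsSchemeTheoreticallyDominant.of_isPullback (forget_map_whiskerLeft G d).flip

theorem dominant_whiskerRight {A B : Over S} (d : A ⟶ B) [IsSchemeTheoreticallyDominant d.left]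
    [QuasiCompact d.left] (Z : Over S) [Flat (fst B Z).left] : IsSchemeTheoreticallyDominant (d ▷ Z).left :=
  IsSchemeTheoreticallyDominant.of_isPullback (forget_map_whiskerRight d Z).flip

theorem property_whiskerRight {Q : MorphismProperty Scheme.{u}} [Q.IsStableUnderBaseChange] {A B : Over S}
    (d : A ⟶ B) (Z : Over S) (h : Q d.left) : Q (d ▷ Z).left :=
  MorphismProperty.of_isPullback (forget_map_whiskerRight d Z).flip h

section

variable (R : Type u) [CommRing R] [IsDedekindDomain R]

/-- The generic point over the base. -/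
abbrev gen : Over (Spec (CommRingCat.of R)) := Over.mk (Neron.genPt R)

theorem flat_gen : Flat (gen R).hom := by
  change Flat (Spec.map (CommRingCat.ofHom (algebraMap R (FractionRing R))))
  rw [HasRingHomProperty.Spec_iff (P := @Flat)]
  exact RingHom.flat_algebraMap_iff.mpr inferInstance

theorem dominant_gen : IsSchemeTheoreticallyDominant (gen R).hom :=
  isSchemeTheoreticallyDominant_SpecMap (algebraMap R (FractionRing R)) (IsFractionRing.injective R (FractionRing R))

theorem isPreimmersion_gen : IsPreimmersion (gen R).hom :=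
  IsPreimmersion.of_isLocalization (nonZeroDivisors R)

theorem qc_gen : QuasiCompact (gen R).hom := by
  haveI : IsAffineHom (Spec.map (CommRingCat.ofHom (algebraMap R (FractionRing R)))) := inferInstance
  exact (inferInstance : QuasiCompact (Spec.map (CommRingCat.ofHom (algebraMap R (FractionRing R)))))

theorem hom_gen_ext {W : Over (Spec (CommRingCat.of R))} (f g : W ⟶ gen R) : f = g := by
  haveI := isPreimmersion_gen R
  exact Over.OverMorphism.ext ((cancel_mono (gen R).hom).mp ((Over.w f).trans (Over.w g).symm))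

variable {R}
variable {G P Q : Over (Spec (CommRingCat.of R))} [GrpObj G] [IsProper G.hom] [Flat G.hom]
  (aP : AlgGrp.Action G P) (aQ : AlgGrp.Action G Q)
  (hP : IsPseudoTorsorSch aP) [UniversallyClosed Q.hom] [IsSeparated Q.hom]
  (ψ : P ⊗ gen R ⟶ Q)
  (hψ : ∀ (T : Over (Spec (CommRingCat.of R))) (g : T ⟶ G) (x : T ⟶ P) (k : T ⟶ gen R),
      lift (lift g x ≫ aP.act) k ≫ ψ = lift g (lift x k ≫ ψ) ≫ aQ.act)

include hP hψ in
/-- The closure of the graph is a graph over a valuation ring through which a point of `P` passes. -/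
theorem isIso_whiskerRight_of_point {Γ : Over (Spec (CommRingCat.of R))} (i : Γ ⟶ P ⊗ Q) [IsClosedImmersion i.left]
    (k : P ⊗ gen R ⟶ Γ) [IsSchemeTheoreticallyDominant k.left] [QuasiCompact k.left]
    (hki : k ≫ i = lift (fst P (gen R)) ψ) (V : Type u) [CommRing V] [IsDomain V] [ValuationRing V] (χ : R →+* V)
    (hχ : Function.Injective χ) (hflat : χ.Flat) (p₀ : Over.mk (Spec.map (CommRingCat.ofHom χ)) ⟶ P) :
    IsIso ((i ≫ fst P Q) ▷ Over.mk (Spec.map (CommRingCat.ofHom χ))).left := by
  let T : Over (Spec (CommRingCat.of R)) := Over.mk (Spec.map (CommRingCat.ofHom χ))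
  haveI hTflat : Flat T.hom := by
    change Flat (Spec.map (CommRingCat.ofHom χ))
    rw [HasRingHomProperty.Spec_iff (P := @Flat)]
    exact hflat
  let L := FractionRing V
  have hinj : Function.Injective ((algebraMap V L).comp χ) := (IsFractionRing.injective V L).comp hχ
  let TL : Over (Spec (CommRingCat.of R)) := Over.mk (Spec.map (CommRingCat.ofHom ((algebraMap V L).comp χ)))
  let v : TL ⟶ T := Over.homMk (Spec.map (CommRingCat.ofHom (algebraMap V L))) (by
    change Spec.map _ ≫ Spec.map _ = Spec.map _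
    rw [← Spec.map_comp]; rfl)
  haveI : IsSchemeTheoreticallyDominant v.left :=
    isSchemeTheoreticallyDominant_SpecMap (algebraMap V L) (IsFractionRing.injective V L)
  haveI : QuasiCompact v.left := by
    haveI : IsAffineHom (Spec.map (CommRingCat.ofHom (algebraMap V L))) := inferInstance
    exact (inferInstance : QuasiCompact (Spec.map (CommRingCat.ofHom (algebraMap V L))))
  let kL : TL ⟶ gen R := Over.homMk (Spec.map (CommRingCat.ofHom (IsFractionRing.lift hinj : FractionRing R →+* L))) (by
    change Spec.map _ ≫ Spec.map _ = Spec.map _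
    rw [← Spec.map_comp, ← CommRingCat.ofHom_comp]
    congr 2
    exact IsLocalization.lift_comp _)
  -- the point of `Q`
  let qL : TL ⟶ Q := lift (v ≫ p₀) kL ≫ ψ
  have hex : ValuativeCriterion.Existence Q.hom := by
    have h : (@UniversallyClosed : MorphismProperty Scheme) Q.hom := ‹UniversallyClosed Q.hom›
    rw [UniversallyClosed.eq_valuativeCriterion] at h
    exact h.1
  obtain ⟨l, hl₁, hl₂⟩ := (hex
    { R := V, K := L, i₁ := qL.left, i₂ := T.hom,
      commSq := ⟨(Over.w qL).trans (Over.w v).symm⟩ }).exists_lift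
  let q : T ⟶ Q := Over.homMk l hl₂
  have hq : v ≫ q = qL := Over.OverMorphism.ext hl₁
  haveI := isIso_orb aP hP p₀
  let φT : P ⊗ T ⟶ Q := inv (orb aP p₀) ≫ (G ◁ q) ≫ aQ.act
  haveI hsnd : Flat (snd P T).left := property_of_point aP hP (Q := @Flat) inferInstance p₀
  haveI hgflat : Flat (fst P (gen R)).left := property_fst (Q := @Flat) P (gen R) (flat_gen R)
  haveI hgqc : QuasiCompact (fst P (gen R)).left := property_fst (Q := @QuasiCompact) P (gen R) (qc_gen R)
  -- agreement with the generic morphism
  have hagree : (fst P (gen R) ▷ T) ≫ φT = fst (P ⊗ gen R) T ≫ ψ := by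
    haveI : Flat (snd (P ⊗ gen R) T).left := by
      have e : (fst P (gen R) ▷ T) ≫ snd P T = snd (P ⊗ gen R) T := whiskerRight_snd _ _
      rw [← e, Over.comp_left]
      exact MorphismProperty.comp_mem _ _ _ (property_whiskerRight (Q := @Flat) _ T hgflat) hsnd
    haveI := dominant_whiskerLeft (P ⊗ gen R) v
    refine Over.OverMorphism.ext (hom_ext_of_dominant Q.hom (by rw [Over.w, Over.w]) ((P ⊗ gen R) ◁ v).left ?_)
    simp only [← Over.comp_left]
    congr 1
    apply eq_of_forall_lift
    intro W z t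
    simp only [lift_whiskerLeft_assoc, lift_whiskerRight_assoc, lift_fst_assoc]
    obtain ⟨x, c, rfl⟩ : ∃ x c, z = lift x c := ⟨z ≫ fst _ _, z ≫ snd _ _, by simp⟩
    rw [lift_fst]
    haveI := isIso_orb aP hP (v ≫ p₀)
    let g : W ⟶ G := lift x t ≫ inv (orb aP (v ≫ p₀)) ≫ fst G TL
    have hg0 : lift g t ≫ orb aP (v ≫ p₀) = lift x t := by
      have h2 : inv (orb aP (v ≫ p₀)) ≫ snd G TL = snd P TL := by
        rw [IsIso.inv_comp_eq]; simp [orb]
      have h3 : lift g t = lift x t ≫ inv (orb aP (v ≫ p₀)) := by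
        apply CartesianMonoidalCategory.hom_ext <;> simp [g, h2]
      rw [h3, Category.assoc, IsIso.inv_hom_id, Category.comp_id]
    have hx : lift g (t ≫ v ≫ p₀) ≫ aP.act = x := by
      simpa [orb] using congrArg (· ≫ fst P TL) hg0
    have hφ : lift x (t ≫ v) ≫ φT = lift g (t ≫ v ≫ q) ≫ aQ.act := by
      have h3 : lift g (t ≫ v) ≫ orb aP p₀ = lift x (t ≫ v) := by
        rw [← hx]
        apply CartesianMonoidalCategory.hom_ext <;> simp [orb]
      rw [← h3]
      simp [φT]
    rw [hφ, hq, hom_gen_ext R c (t ≫ kL), ← hx, hψ, comp_lift_assoc]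
  -- the graph
  let γ : P ⊗ T ⟶ (P ⊗ Q) ⊗ T := lift (lift (fst P T) φT) (snd P T)
  haveI : IsSeparated (fst P Q).left := property_fst (Q := @IsSeparated) P Q inferInstance
  haveI : IsSeparated (fst P Q ▷ T).left := property_whiskerRight (Q := @IsSeparated) _ T inferInstance
  have hγ : γ ≫ (fst P Q ▷ T) = 𝟙 _ := by
    apply CartesianMonoidalCategory.hom_ext <;> simp [γ]
  haveI : IsClosedImmersion γ.left := by
    have : IsClosedImmersion (γ.left ≫ (fst P Q ▷ T).left) := by
      rw [← Over.comp_left, hγ, Over.id_left]; infer_instance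
    exact IsClosedImmersion.of_comp γ.left (fst P Q ▷ T).left
  haveI : IsClosedImmersion (i ▷ T).left := property_whiskerRight (Q := @IsClosedImmersion) i T inferInstance
  -- dominance
  haveI : IsSchemeTheoreticallyDominant (fst P (gen R) ▷ T).left := by
    have H : IsPullback (fst P (gen R) ▷ T).left ((fst (P ⊗ gen R) T).left ≫ (snd P (gen R)).left)
        ((fst P T).left ≫ P.hom) (gen R).hom :=
      (forget_map_whiskerRight (fst P (gen R)) T).paste_vert (isPullback_fst_snd P (gen R))
    haveI := dominant_gen R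
    haveI := qc_gen R
    haveI : Flat ((fst P T).left ≫ P.hom) := by
      have e : (fst P T).left ≫ P.hom = (snd P T).left ≫ T.hom := (Over.w (fst P T)).trans (Over.w (snd P T)).symm
      rw [e]
      exact MorphismProperty.comp_mem _ _ _ hsnd hTflat
    exact IsSchemeTheoreticallyDominant.of_isPullback H.flip
  haveI : Flat (fst Γ T).left := property_fst (Q := @Flat) Γ T hTflat
  haveI := dominant_whiskerRight k T
  have hcomp : (k ▷ T) ≫ (i ▷ T) = (fst P (gen R) ▷ T) ≫ γ := by
    rw [← comp_whiskerRight, hki]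
    apply CartesianMonoidalCategory.hom_ext
    · apply CartesianMonoidalCategory.hom_ext
      · simp [γ]
      · simp [γ, hagree]
    · simp [γ]
  have hker : (i ▷ T).left.ker = γ.left.ker := by
    rw [← ker_comp_eq (k ▷ T).left, ← Over.comp_left, hcomp, Over.comp_left, ker_comp_eq]
  let e := IsClosedImmersion.lift (i ▷ T).left γ.left hker.le
  haveI : IsIso e := IsClosedImmersion.isIso_lift (i ▷ T).left γ.left hker
  have he : e ≫ ((i ≫ fst P Q) ▷ T).left = 𝟙 _ := by
    rw [comp_whiskerRight, Over.comp_left, ← Category.assoc, IsClosedImmersion.lift_fac, ← Over.comp_left, hγ,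
      Over.id_left]
  haveI : IsIso (e ≫ ((i ≫ fst P Q) ▷ T).left) := by rw [he]; infer_instance
  exact IsIso.of_isIso_comp_left e _

omit [UniversallyClosed Q.hom] [IsSeparated Q.hom] in
/-- An equivariant morphism between the generic fibres of torsors extends. -/
theorem exists_hom (hP : IsTorsorFor Scheme.fppfPrecoverage aP) (hQ : IsTorsorFor Scheme.fppfPrecoverage aQ)
    (ψ : P ⊗ gen R ⟶ Q)
    (hψ : ∀ (T : Over (Spec (CommRingCat.of R))) (g : T ⟶ G) (x : T ⟶ P) (k : T ⟶ gen R),
      lift (lift g x ≫ aP.act) k ≫ ψ = lift g (lift x k ≫ ψ) ≫ aQ.act) :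
    ∃ φ : P ⟶ Q, fst P (gen R) ≫ φ = ψ ∧ IsSchemeTheoreticallyDominant (fst P (gen R)).left ∧
      aP.act ≫ φ = (G ◁ φ) ≫ aQ.act := by
  obtain ⟨TP, hP1, hP2, hP3, ⟨pP⟩⟩ := exists_cover hP.2
  obtain ⟨TQ, hQ1, hQ2, hQ3, ⟨pQ⟩⟩ := exists_cover hQ.2
  haveI := (universallyClosed_and_isSeparated aP hP.1 pP).1
  haveI := (universallyClosed_and_isSeparated aQ hQ.1 pQ).1
  haveI := (universallyClosed_and_isSeparated aQ hQ.1 pQ).2
  let j : P ⊗ gen R ⟶ P ⊗ Q := lift (fst P (gen R)) ψ
  haveI : IsSeparated (fst P Q).left := property_fst (Q := @IsSeparated) P Q inferInstance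
  haveI : UniversallyClosed (fst P Q).left := property_fst (Q := @UniversallyClosed) P Q inferInstance
  haveI hgqc : QuasiCompact (fst P (gen R)).left := property_fst (Q := @QuasiCompact) P (gen R) (qc_gen R)
  haveI : QuasiCompact j.left := by
    have : QuasiCompact (j.left ≫ (fst P Q).left) := by
      rw [← Over.comp_left, lift_fst]; exact hgqc
    exact QuasiCompact.of_comp j.left (fst P Q).left
  let Γ : Over (Spec (CommRingCat.of R)) := Over.mk (j.left.imageι ≫ (P ⊗ Q).hom)
  let i : Γ ⟶ P ⊗ Q := Over.homMk j.left.imageι rfl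
  let k : P ⊗ gen R ⟶ Γ := Over.homMk j.left.toImage (by
    change j.left.toImage ≫ j.left.imageι ≫ (P ⊗ Q).hom = _
    rw [Scheme.Hom.toImage_imageι_assoc, Over.w j])
  haveI : IsSchemeTheoreticallyDominant k.left := isSchemeTheoreticallyDominant_toImage j.left
  haveI : QuasiCompact k.left := inferInstanceAs (QuasiCompact j.left.toImage)
  haveI : IsClosedImmersion i.left := inferInstanceAs (IsClosedImmersion j.left.imageι)
  have hki : k ≫ i = j := Over.OverMorphism.ext (Scheme.Hom.toImage_imageι j.left)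
  let a : Γ ⟶ P := i ≫ fst P Q
  haveI : IsIso a.left := by
    refine isIso_of_flat_preimmersion_cover a.left P.hom ?_ ?_
    · haveI : UniversallyClosed (i.left ≫ (fst P Q).left) :=
        MorphismProperty.comp_mem _ _ _ inferInstance inferInstance
      exact Scheme.Hom.isClosedMap (i.left ≫ (fst P Q).left)
    intro s
    obtain ⟨V, _, _, _, χ, ω, m, hinj, hflat, hω, hωflat, hωsurj, hm⟩ := exists_valuation_point R s TP.hom
    let T : Over (Spec (CommRingCat.of R)) := Over.mk (Spec.map (CommRingCat.ofHom χ))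
    let p₀ : T ⟶ P := Over.homMk (m ≫ pP.left) (by rw [Category.assoc, Over.w pP, hm]; rfl)
    haveI hT := isIso_whiskerRight_of_point aP aQ hP.1 ψ hψ i k hki V χ hinj hflat p₀
    let Sp : Over (Spec (CommRingCat.of R)) :=
      Over.mk (Spec.map (CommRingCat.ofHom (algebraMap R (Localization.AtPrime s.asIdeal))))
    let π : T ⟶ Sp := Over.homMk (Spec.map (CommRingCat.ofHom ω)) (by
      change Spec.map _ ≫ Spec.map _ = Spec.map _
      rw [← Spec.map_comp, ← CommRingCat.ofHom_comp, hω])
    have hπ : (@Surjective ⊓ @Flat ⊓ @QuasiCompact : MorphismProperty Scheme.{u}) (P ◁ π).left := by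
      refine MorphismProperty.of_isPullback (forget_map_whiskerLeft P π).flip ?_
      refine ⟨⟨hωsurj, hωflat⟩, ?_⟩
      haveI : IsAffineHom (Spec.map (CommRingCat.ofHom ω)) := inferInstance
      exact (inferInstance : QuasiCompact (Spec.map (CommRingCat.ofHom ω)))
    have hsq : IsPullback (Γ ◁ π).left (a ▷ T).left (a ▷ Sp).left (P ◁ π).left := by
      refine IsPullback.of_right ?_ ?_ (forget_map_whiskerRight a Sp).flip
      · rw [← Over.comp_left, ← Over.comp_left, whiskerLeft_fst, whiskerLeft_fst]
        exact (forget_map_whiskerRight a T).flip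
      · rw [← Over.comp_left, ← Over.comp_left, whisker_exchange]
    have hiso : IsIso (a ▷ Sp).left :=
      MorphismProperty.of_isPullback_of_descendsAlong (P := MorphismProperty.isomorphisms Scheme)
        hsq.flip hπ (show IsIso _ from hT)
    refine ⟨Sp.left, Sp.hom, _, _, (a ▷ Sp).left, (fst Γ Sp).left, (fst P Sp).left, (snd P Sp).left, ?_,
      IsPreimmersion.of_isLocalization s.asIdeal.primeCompl,
      ⟨IsLocalRing.closedPoint _, PrimeSpectrum.ext Localization.AtPrime.comap_maximalIdeal⟩,
      hiso, isPullback_fst_snd P Sp, (forget_map_whiskerRight a Sp).flip⟩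
    change Flat (Spec.map (CommRingCat.ofHom (algebraMap R (Localization.AtPrime s.asIdeal))))
    rw [HasRingHomProperty.Spec_iff (P := @Flat)]
    exact RingHom.flat_algebraMap_iff.mpr inferInstance
  haveI : IsIso a := by
    haveI : IsIso ((Over.forget _).map a) := inferInstanceAs (IsIso a.left)
    exact isIso_of_reflects_iso a (Over.forget _)
  have hka : k ≫ a = fst P (gen R) := by rw [← Category.assoc, hki, lift_fst]
  have hfst : fst P (gen R) ≫ inv a = k := by rw [← hka, Category.assoc, IsIso.hom_inv_id, Category.comp_id]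
  haveI hdom : IsSchemeTheoreticallyDominant (fst P (gen R)).left := by
    rw [← hka, Over.comp_left]
    infer_instance
  have hφ : fst P (gen R) ≫ inv a ≫ i ≫ snd P Q = ψ := by
    rw [reassoc_of% hfst, reassoc_of% hki, lift_snd]
  refine ⟨inv a ≫ i ≫ snd P Q, hφ, hdom, ?_⟩
  haveI : Flat (snd G P).left := property_snd (Q := @Flat) G P inferInstance
  haveI := dominant_whiskerLeft G (fst P (gen R))
  refine hom_ext_of_dense aQ hQ.1 pQ (G ◁ fst P (gen R)) ?_
  apply eq_of_forall_lift
  intro W g z
  obtain ⟨x, c, rfl⟩ : ∃ x c, z = lift x c := ⟨z ≫ fst _ _, z ≫ snd _ _, by simp⟩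
  rw [lift_whiskerLeft_assoc, lift_whiskerLeft_assoc, lift_whiskerLeft_assoc, lift_fst]
  have h1 : ∀ y : W ⟶ P, y ≫ inv a ≫ i ≫ snd P Q = lift y c ≫ ψ := fun y => by
    rw [← hφ, lift_fst_assoc]
  rw [← Category.assoc (lift g x), h1, h1, hψ]

end

end TorsExtLib
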