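import Groth.Agent.TorsExtLib.Main
import Groth.Prelude.Def_Neron

/-!
# Torsors under Néron models
-/

set_option autoImplicit false
set_option linter.style.haveILetI false
universe u

open CategoryTheory CategoryTheory.Limits MonoidalCategory CartesianMonoidalCategory AlgebraicGeometry
open NonAbH1

noncomputable section

namespace TorsExtLib

variable {R : Type u} [CommRing R] [IsDedekindDomain R]

theorem pullbackMap_left_fst {A B : Over (Spec (CommRingCat.of R))} (f : A ⟶ B) :
    ((Neron.genericFibre R).map f).left ≫ (fst B (gen R)).left = (fst A (gen R)).left ≫ f.left :=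
  ActBC.pullback_map_left_fst (Neron.genPt R) f

theorem dominant_fst_gen {A : Over (Spec (CommRingCat.of R))} [Flat A.hom] :
    IsSchemeTheoreticallyDominant (fst A (gen R)).left := by
  haveI := dominant_gen R
  haveI := qc_gen R
  exact IsSchemeTheoreticallyDominant.of_isPullback (isPullback_fst_snd A (gen R)).flip

theorem hom_ext_generic {A B : Over (Spec (CommRingCat.of R))} [Flat A.hom] [IsSeparated B.hom] {f g : A ⟶ B}
    (h : fst A (gen R) ≫ f = fst A (gen R) ≫ g) : f = g := by
  haveI := dominant_fst_gen (A := A)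
  exact Over.OverMorphism.ext (hom_ext_of_dominant B.hom (by rw [Over.w, Over.w]) (fst A (gen R)).left
    (by rw [← Over.comp_left, h, Over.comp_left]))

theorem isNeronModel_torsor (X : Over (Spec (CommRingCat.of R))) [GrpObj X]
    (hX : Neron.IsNeronModelOf R X ((Neron.genericFibre R).obj X) (Iso.refl _))
    (P : TorsorSch X Scheme.fppfPrecoverage) :
    Neron.IsNeronModelOf R P.X ((Neron.genericFibre R).obj P.X) (Iso.refl _) := by
  obtain ⟨hXs, hXsep, hXft, hXqc, hXnp⟩ := hX
  obtain ⟨T, hT1, hT2, hT3, ⟨p⟩⟩ := exists_cover P.isTorsor.2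
  have hps := P.isTorsor.1
  have hQ : (@Surjective ⊓ @Flat ⊓ @LocallyOfFinitePresentation : MorphismProperty Scheme.{u}) T.hom :=
    ⟨⟨hT2, hT1⟩, hT3⟩
  haveI hPs : Smooth P.X.hom := MorphismProperty.of_isPullback_of_descendsAlong (P := @Smooth)
    (isPullback_fst_snd P.X T).flip hQ (property_of_point P.act hps (Q := @Smooth) hXs p)
  haveI : IsSeparated (snd P.X T).left := property_of_point P.act hps (Q := @IsSeparated) hXsep p
  haveI : IsSeparated P.X.hom := by
    have hd : (MorphismProperty.diagonal @UniversallyClosed) P.X.hom :=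
      MorphismProperty.of_isPullback_of_descendsAlong (P := MorphismProperty.diagonal @UniversallyClosed)
        (isPullback_fst_snd P.X T).flip hQ
        (show UniversallyClosed (pullback.diagonal (snd P.X T).left) from inferInstance)
    haveI : UniversallyClosed (pullback.diagonal P.X.hom) := hd
    exact ⟨IsClosedImmersion.of_isPreimmersion _ (Scheme.Hom.isClosedMap _).isClosed_range⟩
  haveI : Surjective (fst P.X T).left := property_fst (Q := @Surjective) P.X T hT2
  haveI hqc : QuasiCompact P.X.hom := by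
    obtain ⟨V, hV, hVeq⟩ := T.hom.isOpenMap.exists_opens_image_eq_of_prespectralSpace
      T.hom.continuous (by simp) isOpen_univ isCompact_univ
    haveI hsnd : QuasiCompact (snd P.X T).left := property_of_point P.act hps (Q := @QuasiCompact) hXqc p
    refine (quasiCompact_iff_compactSpace _).mpr ⟨?_⟩
    have hsurj : (fst P.X T).left '' ((snd P.X T).left ⁻¹' (V : Set T.left)) = Set.univ := by
      refine Set.eq_univ_of_forall fun x => ?_
      obtain ⟨t, ht, htx⟩ := hVeq.ge (Set.mem_univ (P.X.hom x))
      obtain ⟨z, hz1, hz2⟩ := Scheme.exists_preimage_of_isPullback (isPullback_fst_snd P.X T) x t htx.symm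
      exact ⟨z, by rw [Set.mem_preimage, hz2]; exact ht, hz1⟩
    rw [← hsurj]
    exact (QuasiCompact.isCompact_preimage (f := (snd P.X T).left) V V.isOpen hV).image
      (fst P.X T).left.continuous
  haveI : Surjective P.X.hom := ⟨fun s => by
    obtain ⟨t, ht⟩ := T.hom.surjective s
    exact ⟨p.left t, by rw [← Scheme.Hom.comp_apply, Over.w p, ht]⟩⟩
  refine ⟨inferInstance, inferInstance, inferInstance, inferInstance, fun Y hY => ?_⟩
  haveI : Flat Y.hom := inferInstance
  constructor
  · intro h₁ h₂ h12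
    have h12' : (Neron.genericFibre R).map h₁ = (Neron.genericFibre R).map h₂ := by simpa using h12
    refine hom_ext_generic (Over.OverMorphism.ext ?_)
    rw [Over.comp_left, Over.comp_left, ← pullbackMap_left_fst, ← pullbackMap_left_fst, h12']
  · intro f₀
    let ψ : Y ⊗ gen R ⟶ P.X := Over.homMk (f₀.left ≫ pullback.fst P.X.hom (Neron.genPt R)) (by
      have h : f₀.left ≫ pullback.snd P.X.hom (Neron.genPt R) = pullback.snd Y.hom (Neron.genPt R) := Over.w f₀
      rw [Category.assoc, pullback.condition, ← Category.assoc, h, ← pullback.condition]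
      rfl)
    haveI : IsIso (lift P.act.act (snd X P.X)) := hps
    let Y' := Y ⊗ P.X
    let ψ' : Y' ⊗ gen R ⟶ P.X := (fst Y P.X ▷ gen R) ≫ ψ
    let pp : Y' ⊗ gen R ⟶ P.X := fst Y' (gen R) ≫ snd Y P.X
    let η' : Y' ⊗ gen R ⟶ X := lift ψ' pp ≫ inv (lift P.act.act (snd X P.X)) ≫ fst X P.X
    have hY' : Smooth Y'.hom := by
      rw [← Over.w (fst Y P.X)]
      exact MorphismProperty.comp_mem _ _ _ (property_fst (Q := @Smooth) Y P.X hPs) hY
    haveI : Smooth Y'.hom := hY'
    obtain ⟨x, hx⟩ := (hXnp Y' hY').2 (Over.homMk (pullback.lift η'.left (pullback.snd Y'.hom (Neron.genPt R))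
      (by rw [Over.w η']; exact pullback.condition)) (pullback.lift_snd _ _ _))
    have hx' : fst Y' (gen R) ≫ x = η' := by
      have hx2 : (Neron.genericFibre R).map x = (Over.homMk (pullback.lift η'.left (pullback.snd Y'.hom (Neron.genPt R))
          (by rw [Over.w η']; exact pullback.condition)) (pullback.lift_snd _ _ _)) := by
        simpa using hx
      refine Over.OverMorphism.ext ?_
      rw [Over.comp_left, ← pullbackMap_left_fst, hx2]
      exact pullback.lift_fst _ _ _
    let F : Y' ⟶ P.X := lift x (snd Y P.X) ≫ P.act.act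
    have hF : fst Y' (gen R) ≫ F = ψ' := by
      have h1 : lift η' pp = lift ψ' pp ≫ inv (lift P.act.act (snd X P.X)) := by
        have h2 : inv (lift P.act.act (snd X P.X)) ≫ snd X P.X = snd P.X P.X := by
          rw [IsIso.inv_comp_eq, lift_snd]
        apply CartesianMonoidalCategory.hom_ext <;> simp [η', h2]
      have h3 : lift η' pp ≫ P.act.act = ψ' := by
        have h4 : inv (lift P.act.act (snd X P.X)) ≫ P.act.act = fst P.X P.X := by
          rw [IsIso.inv_comp_eq, lift_fst]
        rw [h1, Category.assoc, h4, lift_fst]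
      rw [← h3, ← hx', comp_lift_assoc]
    -- descent
    haveI : Flat (fst Y P.X).left := property_fst (Q := @Flat) Y P.X inferInstance
    haveI : Surjective (fst Y P.X).left := property_fst (Q := @Surjective) Y P.X inferInstance
    haveI : QuasiCompact (fst Y P.X).left := property_fst (Q := @QuasiCompact) Y P.X hqc
    let a : Y' ⊗ P.X ⟶ Y' := fst Y' P.X
    let b : Y' ⊗ P.X ⟶ Y' := lift (fst Y' P.X ≫ fst Y P.X) (snd Y' P.X)
    have hab : a ≫ F = b ≫ F := by
      haveI : Flat (Y' ⊗ P.X).hom := by
        rw [← Over.w (fst Y' P.X)]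
        exact MorphismProperty.comp_mem _ _ _ (property_fst (Q := @Flat) Y' P.X inferInstance) inferInstance
      refine hom_ext_generic ?_
      have e : ∀ c : Y' ⊗ P.X ⟶ Y', fst (Y' ⊗ P.X) (gen R) ≫ c ≫ F =
          ((c ≫ fst Y P.X) ▷ gen R) ≫ ψ := fun c => by
        rw [comp_whiskerRight, Category.assoc]
        change _ = (c ▷ gen R) ≫ ψ'
        rw [← hF, whiskerRight_fst_assoc]
      rw [e, e]
      simp [a, b]
    have hdesc : ∀ {Z : Scheme.{u}} (g₁ g₂ : Z ⟶ Y'.left), g₁ ≫ (fst Y P.X).left = g₂ ≫ (fst Y P.X).left →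
        g₁ ≫ F.left = g₂ ≫ F.left := by
      intro Z g₁ g₂ hg
      let Zo : Over (Spec (CommRingCat.of R)) := Over.mk (g₁ ≫ Y'.hom)
      let k₁ : Zo ⟶ Y' := Over.homMk g₁ rfl
      let k₂ : Zo ⟶ Y' := Over.homMk g₂ (by
        change g₂ ≫ Y'.hom = g₁ ≫ Y'.hom
        rw [← Over.w (fst Y P.X), ← Category.assoc, ← hg, Category.assoc])
      have hk : k₁ ≫ fst Y P.X = k₂ ≫ fst Y P.X := Over.OverMorphism.ext hg
      have e1 : lift k₁ (k₂ ≫ snd Y P.X) ≫ a = k₁ := lift_fst _ _
      have e2 : lift k₁ (k₂ ≫ snd Y P.X) ≫ b = k₂ := by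
        apply CartesianMonoidalCategory.hom_ext <;> simp [b, hk]
      have := congrArg (fun m => (lift k₁ (k₂ ≫ snd Y P.X) ≫ m).left) hab
      simp only [← Category.assoc, e1, e2] at this
      exact this
    let φl : Y.left ⟶ P.X.left := EffectiveEpi.desc (fst Y P.X).left F.left fun g₁ g₂ hg => hdesc g₁ g₂ hg
    have hφl : (fst Y P.X).left ≫ φl = F.left := EffectiveEpi.fac _ _ _
    haveI : Epi (fst Y P.X).left := Flat.epi_of_flat_of_surjective _
    let φ : Y ⟶ P.X := Over.homMk φl (by
      rw [← cancel_epi (fst Y P.X).left, ← Category.assoc, hφl, Over.w F, Over.w (fst Y P.X)])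
    have hφ : fst Y P.X ≫ φ = F := Over.OverMorphism.ext hφl
    haveI : Epi ((fst Y P.X) ▷ gen R).left := by
      haveI : Flat ((fst Y P.X) ▷ gen R).left := property_whiskerRight (Q := @Flat) _ _ inferInstance
      haveI : Surjective ((fst Y P.X) ▷ gen R).left := property_whiskerRight (Q := @Surjective) _ _ inferInstance
      exact Flat.epi_of_flat_of_surjective _
    have hgen : fst Y (gen R) ≫ φ = ψ := by
      refine Over.OverMorphism.ext ?_
      rw [← cancel_epi ((fst Y P.X) ▷ gen R).left, ← Over.comp_left, ← Over.comp_left, whiskerRight_fst_assoc, hφ, hF]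
    refine ⟨φ, ?_⟩
    change (Neron.genericFibre R).map φ ≫ 𝟙 _ = f₀
    rw [Category.comp_id]
    refine Over.OverMorphism.ext (pullback.hom_ext ?_ ?_)
    · exact (pullbackMap_left_fst φ).trans (congrArg Over.Hom.left hgen)
    · exact (Over.w ((Neron.genericFibre R).map φ)).trans (Over.w f₀).symm

end TorsExtLib
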