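import Groth.Prelude.Def_NonAbH2
import Mathlib.AlgebraicGeometry.Morphisms.FlatDescent
import Mathlib.AlgebraicGeometry.Morphisms.LocalFlatDescent
import Mathlib.AlgebraicGeometry.Morphisms.SchemeTheoreticallyDominant
import Mathlib.AlgebraicGeometry.Morphisms.Proper

/-!
# Torsors with a section: formal part
-/

set_option autoImplicit false
universe u v

open CategoryTheory CategoryTheory.Limits MonoidalCategory CartesianMonoidalCategory MonObj AlgebraicGeometry
open NonAbH1

noncomputable section

namespace TorsExtLib

section Cat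

variable {C : Type u} [Category.{v} C] [CartesianMonoidalCategory C]

theorem isPullback_whiskerLeft (G : C) {A B : C} (f : A ⟶ B) :
    IsPullback (G ◁ f) (snd G A) (snd G B) f := by
  refine IsPullback.of_isLimit' ⟨by simp⟩ (PullbackCone.IsLimit.mk _ (fun s => lift (s.fst ≫ fst G B) s.snd) ?_ ?_ ?_)
  · intro s
    apply CartesianMonoidalCategory.hom_ext
    · simp
    · simp [s.condition]
  · intro s; simp
  · intro s m h1 h2
    apply CartesianMonoidalCategory.hom_ext
    · simp [← h1]
    · simp [← h2]

theorem isPullback_whiskerRight {A B : C} (f : A ⟶ B) (Z : C) :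
    IsPullback (f ▷ Z) (fst A Z) (fst B Z) f := by
  refine IsPullback.of_isLimit' ⟨by simp⟩ (PullbackCone.IsLimit.mk _ (fun s => lift s.snd (s.fst ≫ snd B Z)) ?_ ?_ ?_)
  · intro s
    apply CartesianMonoidalCategory.hom_ext
    · simp [s.condition]
    · simp
  · intro s; simp
  · intro s m h1 h2
    apply CartesianMonoidalCategory.hom_ext
    · simp [← h2]
    · simp [← h1]

end Cat

variable {S : Scheme.{u}}

theorem forget_map_whiskerLeft (G : Over S) {A B : Over S} (f : A ⟶ B) :
    IsPullback (G ◁ f).left (snd G A).left (snd G B).left f.left :=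
  (isPullback_whiskerLeft G f).map (Over.forget S)

theorem forget_map_whiskerRight {A B : Over S} (f : A ⟶ B) (Z : Over S) :
    IsPullback (f ▷ Z).left (fst A Z).left (fst B Z).left f.left :=
  (isPullback_whiskerRight f Z).map (Over.forget S)

theorem isPullback_fst_snd (A B : Over S) : IsPullback (fst A B).left (snd A B).left A.hom B.hom :=
  IsPullback.of_hasPullback A.hom B.hom

variable {G P : Over S} [GrpObj G] (a : AlgGrp.Action G P)

/-- The orbit map of a point, over the parameter. -/
def orb {T : Over S} (p : T ⟶ P) : G ⊗ T ⟶ P ⊗ T := lift ((G ◁ p) ≫ a.act) (snd G T)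

theorem isIso_orb (h : IsPseudoTorsorSch a) {T : Over S} (p : T ⟶ P) : IsIso (orb a p) := by
  haveI : IsIso (lift a.act (snd G P)) := h
  have hsnd : inv (lift a.act (snd G P)) ≫ snd G P = snd P P := by
    rw [IsIso.inv_comp_eq, lift_snd]
  let w : P ⊗ T ⟶ G ⊗ P := lift (fst P T) (snd P T ≫ p) ≫ inv (lift a.act (snd G P))
  have hw2 : w ≫ snd G P = snd P T ≫ p := by simp [w, hsnd]
  have hw1 : w ≫ a.act = fst P T := by
    have : w ≫ lift a.act (snd G P) = lift (fst P T) (snd P T ≫ p) := by
      simp only [w, Category.assoc, IsIso.inv_hom_id, Category.comp_id]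
    simpa using congrArg (· ≫ fst P P) this
  refine ⟨lift (w ≫ fst G P) (snd P T), ?_, ?_⟩
  · apply CartesianMonoidalCategory.hom_ext
    · have h1 : orb a p ≫ lift (fst P T) (snd P T ≫ p) = (G ◁ p) ≫ lift a.act (snd G P) := by
        apply CartesianMonoidalCategory.hom_ext <;> simp [orb]
      simp only [Category.assoc, lift_fst, w, reassoc_of% h1, Category.id_comp]
      simp
    · simp [orb]
  · apply CartesianMonoidalCategory.hom_ext
    · have h2 : lift (w ≫ fst G P) (snd P T) ≫ (G ◁ p) = w := by
        apply CartesianMonoidalCategory.hom_ext <;> simp [hw2]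
      simp only [orb, Category.assoc, lift_fst, reassoc_of% h2, hw1, Category.id_comp]
    · simp [orb]

end TorsExtLib
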