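import Mathlib.RingTheory.DedekindDomain.Dvr
import Mathlib.RingTheory.Flat.TorsionFree
import Mathlib.RingTheory.Ideal.GoingDown
import Mathlib.RingTheory.Valuation.LocalSubring
import Mathlib.RingTheory.RingHom.Flat

/-!
# Valuation rings through a prime of a flat algebra over a Dedekind domain
-/

set_option autoImplicit false
set_option linter.style.haveILetI false
universe u

open IsLocalRing

namespace TorsExtLib

theorem exists_valuation (R A : Type u) [CommRing R] [IsDedekindDomain R] [CommRing A] [Algebra R A]
    [Module.Flat R A] (P : Ideal A) [P.IsPrime] :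
    ∃ (V : Type u) (_ : CommRing V) (_ : IsDomain V) (_ : ValuationRing V) (g : A →+* V),
      Function.Injective (g.comp (algebraMap R A)) ∧ (g.comp (algebraMap R A)).Flat ∧
      (maximalIdeal V).comap (g.comp (algebraMap R A)) = P.under R := by
  obtain ⟨P₀, hle, hP₀, hP₀0⟩ :=
    Ideal.exists_ideal_le_liesOver_of_le (p := (⊥ : Ideal R)) (q := P.under R) P bot_le
  let L := FractionRing (A ⧸ P₀)
  let f₀ : A →+* L := (algebraMap (A ⧸ P₀) L).comp (Ideal.Quotient.mk P₀)
  have hf₀ : ∀ y : P.primeCompl, IsUnit (f₀ y) := fun y => by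
    refine isUnit_iff_ne_zero.mpr fun h => y.2 (hle ?_)
    exact Ideal.Quotient.eq_zero_iff_mem.mp (IsFractionRing.injective (A ⧸ P₀) L (h.trans (map_zero _).symm))
  let f : Localization.AtPrime P →+* L := IsLocalization.lift (M := P.primeCompl) (S := Localization.AtPrime P) hf₀
  obtain ⟨V, hV, hloc⟩ := IsLocalRing.exists_factor_valuationRing f
  let g : A →+* V := (f.codRestrict V.toSubring hV).comp (algebraMap A (Localization.AtPrime P))
  have hinj : Function.Injective (g.comp (algebraMap R A)) := by
    refine (injective_iff_map_eq_zero _).mpr fun r hr => ?_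
    have h1 : f₀ (algebraMap R A r) = 0 := by
      rw [← IsLocalization.lift_eq (S := Localization.AtPrime P) hf₀ (algebraMap R A r)]
      exact congrArg Subtype.val hr
    have h2 : algebraMap R A r ∈ P₀ :=
      Ideal.Quotient.eq_zero_iff_mem.mp (IsFractionRing.injective (A ⧸ P₀) L (h1.trans (map_zero _).symm))
    have h3 : r ∈ P₀.under R := h2
    rwa [← hP₀0.over, Ideal.mem_bot] at h3
  refine ⟨V, inferInstance, inferInstance, inferInstance, g, hinj, ?_, ?_⟩
  · letI := (g.comp (algebraMap R A)).toAlgebra
    haveI : Module.IsTorsionFree R V :=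
      Module.isTorsionFree_iff_algebraMap_injective.mpr hinj
    exact (inferInstance : Module.Flat R V)
  · ext r
    haveI := hloc
    change g (algebraMap R A r) ∈ maximalIdeal V ↔ algebraMap R A r ∈ P
    rw [mem_maximalIdeal, mem_nonunits_iff, ← IsLocalization.AtPrime.to_map_mem_maximal_iff
      (Localization.AtPrime P) P, mem_maximalIdeal, mem_nonunits_iff]
    exact not_congr (isUnit_map_iff (f.codRestrict V.toSubring hV) _)

end TorsExtLib
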